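import Cfsg.Agent.Lib.Sporadic.J3OutChecks.Defs

/-!
# Checks on the centralizer list
-/

set_option autoImplicit false
set_option maxRecDepth 20000
set_option Elab.async false

namespace CfsgLib.Sporadic.J3

open MultData OutData Data

theorem cen_all : forallLt 1920 cenOK = true := by decide +kernel

theorem five_all : forallLt 1920 fiveOK = true := by decide +kernel

end CfsgLib.Sporadic.J3
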