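import Cfsg.Agent.Lib.Sporadic.J3Multiplier
import Cfsg.Agent.Lib.Sporadic.J3OutData

/-!
# Definitions for the checks on the outer automorphism group of the third Janko group
-/

set_option autoImplicit false
set_option maxRecDepth 20000

namespace CfsgLib.Sporadic.J3

open MultData OutData Data

/-- The least code in a class. -/
noncomputable def key (M : ℕ) : ℕ :=
  (fun u v w => (fun s => cond (Nat.ble u s) u s) (cond (Nat.ble v w) v w))
    (mm (sc 0) M) (mm (sc 1) M) (mm (sc 2) M)

/-- The listed centraliser of the involution. -/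
noncomputable def cenAt (i : ℕ) : ℕ := get2 cen i

/-- Substitute coordinate lists into a word. -/
noncomputable def subW (gs : List (List ℕ)) (w : List ℕ) : List ℕ :=
  (w.map fun i => gs.getD i []).flatten

/-- Repeat a list. -/
noncomputable def repW (n : ℕ) (l : List ℕ) : List ℕ := (List.replicate n l).flatten

/-- The order conditions. -/
noncomputable def condsOK (gs : List (List ℕ)) (cs : List (List ℕ × ℕ)) : Bool :=
  cs.all fun c => chkEq (repW c.2 (subW gs c.1)) []

noncomputable def cenOK (i : ℕ) : Bool :=
  tripleOK (cenAt i) && chkEq [cenAt i, baseA] [baseA, cenAt i] &&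
    (Nat.beq (i + 1) 1920 || Nat.blt (key (triple (cenAt i))) (key (triple (cenAt (i + 1)))))

noncomputable def fiveOK (i : ℕ) : Bool :=
  !(chkEq (repW 5 [cenAt i]) []) || chkEq [cenAt i] [] ||
    (fun v => (fun h => Nat.blt (Nat.div v 2 - 1) 1920 &&
        (chkEq [h, elC] [cenAt i, h] || chkEq [h, elC, elC] [cenAt i, h]))
      (cenAt (Nat.div v 2 - 1))) (get2 cenFive i)

noncomputable def eSurvOK (i : ℕ) : Bool :=
  !(condsOK [[elC], [cenAt i]] eConds) || chkEq (repW 3 [elC, elC, cenAt i]) [] ||
    (List.range 5).any fun k =>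
      chkEq [cenAt i] (List.replicate k elC ++ [elE] ++ List.replicate (5 - k) elC)

noncomputable def dSurvOK (i : ℕ) : Bool :=
  !(condsOK [[elC], [elE], [shiftB, cenAt i, fromB]] dConds) ||
    chkEq [shiftB, cenAt i, fromB] [elD] || chkEq [shiftB, cenAt i, fromB] [baseA, elD, baseA]

noncomputable def notInnerOK (i : ℕ) : Bool := !(chkEq [cenAt i, elC] [elC, elC, cenAt i])

noncomputable def twoWd (p : ℕ) : List ℕ := (twoTable.wd p).map twoGenAt

noncomputable def sylOK (p : ℕ) : Bool :=
  !(chkEq (twoWd p ++ twoWd p) []) || chkEq (twoWd p) [] ||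
    (fun h => chkEq [h, baseA] (twoWd p ++ [h])) (get2 sylConj p)

/-- The involution of the point stabiliser. -/
noncomputable def invK : ℕ := Nat.mul kInvo 32768

noncomputable def invEdgeOK (j : ℕ) : Bool :=
  (fun e => tripleOK e && chkEq [invK, j] [e] &&
    (!(Nat.beq (Nat.land e 8191) j) || fixed.elem j)) (get2 invoEdge j)

noncomputable def kCenOK (m : ℕ) : Bool :=
  (fun x => !(chkEq [x, invK] [invK, x]) || kCen.elem m) (Nat.mul m 32768)

/-- Four blocks cover a range. -/
theorem of_four_blocks {f : ℕ → Bool} {n m : ℕ} (hn : n ≤ 4 * m) (h0 : block f 0 m = true) (h1 : block f m m = true)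
    (h2 : block f (2 * m) m = true) (h3 : block f (3 * m) m = true) : forallLt n f = true := by
  rw [forallLt_iff]
  intro k hk
  by_cases a1 : k < m
  · exact block_elim h0 (Nat.zero_le k) (by omega)
  by_cases a2 : k < 2 * m
  · exact block_elim h1 (by omega) (by omega)
  by_cases a3 : k < 3 * m
  · exact block_elim h2 (by omega) (by omega)
  · exact block_elim h3 (by omega) (by omega)

end CfsgLib.Sporadic.J3
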